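import Groth.Agent.Lib.GrpdQuot.OfEqvRel
import Groth.Agent.Lib.GrpdQuot.Invariant
import Groth.Agent.Lib.AlgSpace.OpenSubExists
import Groth.Agent.Lib.AlgSpDecent.OpenScheme
import Groth.Agent.Lib.AlgSpDecent.Specialize
import Groth.Agent.Lib.AlgSpNormCover.Restrict
import Groth.Agent.Lib.Bootstrap.QFin.Affine
import Groth.Prelude.Def_AlgSpMor5

/-! # The schematic locus of the target of a finite locally free cover -/

set_option autoImplicit false
set_option linter.style.haveILetI false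
set_option backward.isDefEq.respectTransparency false
set_option backward.isDefEq.respectTransparency.types false

universe u

open CategoryTheory CategoryTheory.Limits AlgebraicGeometry Topology
open AlgSp Groth.Agent.Lib

namespace Groth.Agent.H8.SchLocus.Basic

variable {S : Scheme.{u}}

theorem repWith_flf {X Y : Sp S} {f : X ⟶ Y} (hf : IsFinLocFreeMor f) :
    RepWith @IsFinite f ∧ RepWith @Flat f ∧ RepWith @LocallyOfFinitePresentation f :=
  ⟨AlgSpace.repWith_mono hf fun _ _ _ h => h.1, AlgSpace.repWith_mono hf fun _ _ _ h => h.2.1,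
    AlgSpace.repWith_mono hf fun _ _ _ h => h.2.2⟩

/-- A kernel pair of representables is an equivalence relation. -/
theorem isEqvRel_of_kernelPair {F : Sp S} {R U : Over S} {s t : R ⟶ U} {q : (yon S).obj U ⟶ F}
    (sq : IsPullback ((yon S).map t) ((yon S).map s) q q) : IsEqvRel s t := by
  refine ⟨fun T r r' h1 h2 => (yon S).map_injective (sq.hom_ext ?_ ?_), fun T => ?_⟩
  · rw [← Functor.map_comp, ← Functor.map_comp, h1]
  · rw [← Functor.map_comp, ← Functor.map_comp, h2]
  · have key : ∀ a b : T ⟶ U, (∃ r : T ⟶ R, r ≫ t = a ∧ r ≫ s = b) ↔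
        (yon S).map a ≫ q = (yon S).map b ≫ q := by
      refine fun a b => ⟨?_, fun e => ?_⟩
      · rintro ⟨r, rfl, rfl⟩
        rw [Functor.map_comp, Functor.map_comp, Category.assoc, Category.assoc, sq.w]
      · obtain ⟨r, hr⟩ := (yon S).map_surjective (sq.lift _ _ e)
        exact ⟨r, (yon S).map_injective (by rw [Functor.map_comp, hr, sq.lift_fst]),
          (yon S).map_injective (by rw [Functor.map_comp, hr, sq.lift_snd])⟩
    simp only [key]
    exact ⟨fun _ => rfl, Eq.symm, Eq.trans⟩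

set_option maxHeartbeats 800000 in
/-- A point whose fibre in a finite locally free cover by a separated locally quasi-finite scheme
over an affine scheme lies in the schematic locus. -/
theorem exists_scheme_nhd_of_cover {Y : Sp S} {U₀ : Over S} {A : Scheme.{u}} [IsAffine A]
    (w : U₀.left ⟶ A) [IsOpenImmersion w] {q : (yon S).obj U₀ ⟶ Y}
    (hq : IsFinLocFreeMor q) (hqs : RepWith @Surjective q) (u : U₀.left) :
    ∃ (O : Over S) (j : (yon S).obj O ⟶ Y), RepWith @IsOpenImmersion j ∧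
      Points.ofPt q u ∈ Set.range (Points.map j) := by
  obtain ⟨hfin, hfl, hfp⟩ := repWith_flf hq
  obtain ⟨R, s, t', sq', hs⟩ := AlgSpace.repWith_exists hq q
  obtain ⟨t, rfl⟩ := (yon S).map_surjective t'
  obtain ⟨ht₁, ht₂, ht₃⟩ := (AlgSpace.repWith_property hq sq'.flip : Mor2.IsFinLocFree t.left)
  obtain ⟨hs₁, hs₂, hs₃⟩ := (hs : Mor2.IsFinLocFree s.left)
  have h := isEqvRel_of_kernelPair sq'
  let G := GrpdQuot.ofEqvRel h
  haveI : IsFinite G.s := hs₁
  haveI : Flat G.s := hs₂
  haveI : LocallyOfFinitePresentation G.s := hs₃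
  haveI : IsFinite G.t := ht₁
  haveI : Flat G.t := ht₂
  haveI : LocallyOfFinitePresentation G.t := ht₃
  haveI : IsFinite s.left := hs₁
  obtain ⟨V, hV, hOV⟩ := Bootstrap.QFin.exists_affineOpen_of_finite w
    (t.left '' (s.left ⁻¹' {u})) ((s.left.finite_preimage_singleton u).image _)
  obtain ⟨W, hW, -, huW, hinv⟩ := GrpdQuot.exists_invariant_affineOpen G u V hV
    fun r hr => hOV ⟨r, hr, rfl⟩
  obtain ⟨O, p, f, -, -, -, -, hf, hsq⟩ := GrpdQuot.exists_chart G h W hW hinv
  haveI := AlgSpace.isLocallySurjective_of_repWith hfl hfp hqs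
  haveI := AlgSpace.isLocallySurjective_quotMap s t
  obtain ⟨φ, hφ⟩ := AlgSpace.exists_desc (AlgSpace.quotMap s t) (AlgSpace.isPullback_quot h) q sq'.w
  obtain ⟨ψ, hψ⟩ := AlgSpace.exists_desc q sq' (AlgSpace.quotMap s t)
    (AlgSpace.quotMap_condition s t).symm
  haveI := AlgSpace.epi_quotMap s t
  haveI : Epi q := (Sheaf.isLocallySurjective_iff_epi' (Type (u + 1)) q).1 inferInstance
  haveI : IsIso φ := ⟨ψ,
    (cancel_epi (AlgSpace.quotMap s t)).1 (((Category.assoc _ _ _).symm.trans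
      (congrArg (· ≫ ψ) hφ)).trans (hψ.trans (Category.comp_id _).symm)),
    (cancel_epi q).1 (((Category.assoc _ _ _).symm.trans
      (congrArg (· ≫ φ) hψ)).trans (hφ.trans (Category.comp_id _).symm))⟩
  let w' : (Over.mk (W.ι ≫ G.pU)).left := (⟨u, huW⟩ : W.toScheme)
  refine ⟨O, f ≫ φ, (AlgSpace.repWith_comp_iso_iff _ f φ).2 hf,
    Points.ofPt (𝟙 _) (p.left w'), ?_⟩
  rw [Points.map_ofPt, Category.id_comp, ← AlgSpace.ofPt_yon_map_comp]
  have e : (yon S).map p ≫ f ≫ φ =
      (yon S).map (Over.homMk W.ι rfl : Over.mk (W.ι ≫ G.pU) ⟶ Over.mk G.pU) ≫ q := by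
    rw [← Category.assoc, ← hsq.w]
    exact (Category.assoc _ _ _).trans (congrArg (_ ≫ ·) hφ)
  exact (congrArg (fun g => Points.ofPt g w') e).trans (AlgSpace.ofPt_yon_map_comp _ q w')

/-- The schematic locus of the target of a finite locally free surjection. -/
theorem iff {X Y : AlgSp.Space S} (f : X ⟶ Y)
    (hf : AlgSp.IsFinLocFreeMor f.hom) (hs : RepWith @Surjective f.hom) (y : Points Y.obj) :
    (∃ (Y' : AlgSp.Space S) (j : Y' ⟶ Y), RepWith @IsOpenImmersion j.hom ∧
        Y'.obj.obj.IsRepresentable ∧ y ∈ Set.range (Points.map j.hom)) ↔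
      ∃ (U : Over S) (a : (yon S).obj U ⟶ X.obj), IsAffine U.left ∧ RepWith @IsOpenImmersion a ∧
        Points.map f.hom ⁻¹' {y} ⊆ Set.range (Points.ofPt a) := by
  constructor
  · rintro ⟨Y', j, hj, hrep, hy⟩
    obtain ⟨y', rfl⟩ := hy
    obtain ⟨M, ⟨r⟩⟩ := hrep.has_representation
    let e := AlgSp.isoOfRepresentableBy r
    obtain ⟨m, hm⟩ : ∃ m, Points.ofPt e.hom m = y' := by
      obtain ⟨z, hz⟩ : ∃ z, Points.map e.hom z = y' := ⟨Points.map e.inv y', by
        rw [← Points.map_comp, e.inv_hom_id, Points.map_id]⟩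
      exact ⟨Points.toScheme M z, by
        rw [Points.ofPt_eq_map_ofScheme, Points.ofScheme_toScheme, hz]⟩
    obtain ⟨_, ⟨N, hN, rfl⟩, hmN, -⟩ :=
      M.left.isBasis_affineOpens.exists_subset_of_mem_open (Set.mem_univ m) isOpen_univ
    change M.left.Opens at N
    haveI : IsAffine N.toScheme := hN
    let c := (yon S).map (AlgSpDecent.Specialize.openIncl N) ≫ e.hom ≫ j.hom
    have hc : RepWith @IsOpenImmersion c :=
      AlgSpace.repWith_yon_map_comp (inferInstanceAs (IsOpenImmersion N.ι))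
        ((AlgSpace.repWith_iso_comp_iff _ e.hom _).2 hj)
    obtain ⟨U, g, a, sq, hg⟩ := AlgSpace.repWith_exists hf c
    haveI : IsFinite g.left := hg.1
    haveI : IsAffine (Over.mk (N.ι ≫ M.hom)).left := hN
    refine ⟨U, a, isAffine_of_isAffineHom g.left,
      AlgSpace.repWith_baseChange sq.flip hc, ?_⟩
    intro x hx
    obtain ⟨z, hz, -⟩ := AlgSpace.exists_of_isPullback sq x (Points.ofScheme _ (⟨m, hmN⟩ : N.toScheme)) (by
      rw [← Points.ofPt_eq_map_ofScheme, hx]
      refine ((AlgSpace.ofPt_yon_map_comp (AlgSpDecent.Specialize.openIncl N)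
        (e.hom ≫ j.hom) (⟨m, hmN⟩ : N.toScheme)).trans ?_).symm
      rw [← hm, Points.map_ofPt]
      rfl)
    rw [← AlgSpDecent.Core.range_points_map_yon]
    exact ⟨z, hz⟩
  · rintro ⟨U, a, hU, ha, hsub⟩
    haveI := hU
    have hI : IsOpen (Set.range (Points.map a)) := (AlgSpace.isOpenEmbedding_map ha).isOpen_range
    have hcl : IsClosedMap (Points.map f.hom) := AlgSpNormCover.isClosedMap_map Y.property
      (AlgSpace.repWith_mono hf fun _ _ g h => by haveI : IsFinite g := h.1; infer_instance)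
    have hW₀ : IsOpen (Points.map f.hom '' (Set.range (Points.map a))ᶜ)ᶜ :=
      (hcl _ hI.isClosed_compl).isOpen_compl
    obtain ⟨Y₀, j₀, -, hj₀, hr⟩ := AlgSpace.exists_open_subspace Y.property hW₀
    have hy : y ∈ Set.range (Points.map j₀) := by
      rw [hr]
      rintro ⟨x, hx, e⟩
      exact hx (by rw [AlgSpDecent.Core.range_points_map_yon]; exact hsub e)
    obtain ⟨y₀, rfl⟩ := hy
    let fst := pullback.snd f.hom j₀
    have sq : IsPullback (pullback.fst f.hom j₀) fst f.hom j₀ := IsPullback.of_hasPullback _ _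
    obtain ⟨l, hl⟩ := (AlgSpace.exists_lift_iff_range_subset ha (pullback.fst f.hom j₀)).2 (by
      rintro _ ⟨z, rfl⟩
      by_contra hn
      refine (hr.le ⟨Points.map fst z, rfl⟩ : _ ∈ _) ⟨_, hn, ?_⟩
      rw [← Points.map_comp, ← Points.map_comp, sq.w])
    haveI : Mono a := AlgSpace.mono_of_repWith (P := @IsOpenImmersion)
      (fun _ _ g (_ : IsOpenImmersion g) ↦ (inferInstance : Mono g)) ha
    have hlo : RepWith @IsOpenImmersion l := by
      refine AlgSpace.repWith_baseChange (IsPullback.of_horiz_isIso_mono (f := pullback.fst f.hom j₀)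
        (fst := 𝟙 _) (g := a) (snd := l) ⟨?_⟩) ?_
      · simp [hl]
      · exact AlgSpace.repWith_baseChange sq.flip hj₀
    obtain ⟨U₀, w, e, he⟩ := AlgSpace.exists_iso_yon_of_representable hlo.rep
      (ξ := 𝟙 ((yon S).obj U)) (snd := l) (fst := 𝟙 _) (IsPullback.of_horiz_isIso ⟨by simp⟩)
    haveI : IsOpenImmersion w.left := (AlgSp.repWith_yon_map_iff @IsOpenImmersion w).1
      (he ▸ (AlgSpace.repWith_iso_comp_iff _ e.hom l).2 hlo)
    have hq : IsFinLocFreeMor (e.hom ≫ fst) :=
      (AlgSpace.repWith_iso_comp_iff _ e.hom fst).2 (AlgSpace.repWith_baseChange sq hf)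
    have hqs : RepWith @Surjective (e.hom ≫ fst) :=
      (AlgSpace.repWith_iso_comp_iff _ e.hom fst).2 (AlgSpace.repWith_baseChange sq hs)
    obtain ⟨z, hz⟩ := AlgSpace.surjective_map hqs y₀
    obtain ⟨O, j, hj, u, hu⟩ := exists_scheme_nhd_of_cover w.left hq hqs (Points.toScheme U₀ z)
    rw [Points.ofPt_eq_map_ofScheme, Points.ofScheme_toScheme, hz] at hu
    refine ⟨⟨(yon S).obj O, IsAlgSpace.yon_obj O⟩, ObjectProperty.homMk (j ≫ j₀),
      AlgSpace.repWith_comp hj hj₀, AlgSpDecent.OpenScheme.isRepresentable_yon O, u, ?_⟩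
    exact (Points.map_comp j j₀ u).trans (congrArg _ hu)

end Groth.Agent.H8.SchLocus.Basic
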